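import Cfsg.Agent.H723.Kill
import Cfsg.Agent.H713.Invol
import Cfsg.Agent.CpAutTh.Seven
import Cfsg.Agent.ThType.CentSevenWords
import Cfsg.Agent.MonsterX.ThOneClass
import Cfsg.Agent.KFacts.Th.Main
import Cfsg.Agent.S2083
import Cfsg.Agent.H710.VanCount
import Cfsg.Agent.FastGrp
import Cfsg.Agent.Prune
set_option linter.all false
prune_inst 0x7f00000000000000000000000000000000000000000000000000000000000000000000000000000000000000000000000000000000000000000000000000000000000000000000000000000000000000003fffffffffffffffffffffffffffbeffbdffffffff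
open scoped Cfsg.Agent.FastGrp

-- part: H723/Spor/Tool
section
/-!
# Tools for the sporadic rows of S4983 (helper723)
-/

set_option autoImplicit false

namespace Cfsg.Agent.H723.Spor.Tool

open Cfsg Cfsg.Agent.H713 Cfsg.Agent.H665.NoPQ

universe u

variable {S : Type u} [Group S] [Finite S]

/-- A character of `p`-defect zero and an element of order divisible by `p` and not equal to `p`. -/
theorem of_order {p : ℕ} (hp : p.Prime) (h : HasDZ p S) {x : S} (hx : p ∣ orderOf x)
    (hx' : orderOf x ≠ p) : ¬ Red.OneZero S :=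
  Kill.kill_order hp (Kill.zs_of_dz hp h) x hx hx'

/-- A character of `p`-defect zero and the order of the group. -/
theorem of_card {p n : ℕ} (a : ℕ) (hp : p.Prime) (hp2 : p ≠ 2) (h : HasDZ p S) (hS : Nat.card S = n)
    (ha : a ≠ 0) (hd : p ^ a ∣ n) (hm : ¬ p ∣ n / p ^ a) (hm1 : ¬ p ^ a ∣ n / p ^ a + 1) :
    ¬ Red.OneZero S :=
  Kill.kill_card (m := n / p ^ a) hp hp2 (by rw [hS, Nat.mul_div_cancel' hd]) ha hm hm1
    (Kill.zs_of_dz hp h)

/-- The same for the transport from a model. -/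
theorem of_model {M : Type*} [Group M] (e : S ≃* M) {p n : ℕ} (a : ℕ) (hp : p.Prime) (hp2 : p ≠ 2)
    (h : HasDZ p M) (hS : Nat.card M = n)
    (ha : a ≠ 0) (hd : p ^ a ∣ n) (hm : ¬ p ∣ n / p ^ a) (hm1 : ¬ p ^ a ∣ n / p ^ a + 1) :
    ¬ Red.OneZero S :=
  of_card a hp hp2 (HasDZ.mulEquiv e.symm h) (by rw [Nat.card_congr e.toEquiv, hS]) ha hd hm hm1

end Cfsg.Agent.H723.Spor.Tool
end

-- part: H723/Spor/Th
section
/-!
# `Th`: a character of 31-defect zero, the row, and the failure of (OneZero) (helper723)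

If there is no character of defect zero for `31` then an element `x` of order `31` is inverted by an involution `t`
and, by arithmetic, `|C(x) ∩ C(t)| = 7`. But the centralizer of an element of order `7` has order `7 · 168` or
`7 · 360`.
-/

set_option autoImplicit false

namespace Cfsg.Agent.H723.Spor.Th

open Subgroup Cfsg Cfsg.Agent.H713 Cfsg.Agent.H665.NoPQ
open Cfsg.Agent.Th.Base Cfsg.Agent.Th.Word Cfsg.Agent.Th.RelWords Cfsg.Agent.Th.PermTab
  Cfsg.Agent.Th.KOracle Cfsg.Agent.Th.KPerm Cfsg.Agent.Th.NineAct Cfsg.Agent.Th.CStruct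
  Cfsg.Agent.Th.COracleDef Cfsg.Agent.Th.COracleSound
open Cfsg.Agent.KFacts.Th.Mask Cfsg.Agent.KFacts.Th.Struct
open Cfsg.Agent.CpAutTh.Data Cfsg.Agent.CpAutTh.Alt Cfsg.Agent.CpAutTh.Local Cfsg.Agent.CpAutTh.Mid Cfsg.Agent.CpAutTh.Seven

universe u v

theorem w44 : corc [4, 4] = true := by decide +kernel
theorem w4646 : corc [4, 6, 4, 6] = true := by decide +kernel

section

variable {G : Type u} [Group G] {γ : ℕ → G} (h : Ctx γ)
include h

theorem d2 : γ 4 * γ 4 = 1 := by
  have h1 := ev_one h w44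
  have h2 : ev γ [4, 4] = γ 4 * (γ 4 * 1) := rfl
  rw [h2, mul_one] at h1
  exact h1

theorem ds : γ 4 * γ 6 * γ 4 = (γ 6)⁻¹ := by
  have h1 := ev_one h w4646
  have h2 : ev γ [4, 6, 4, 6] = γ 4 * (γ 6 * (γ 4 * (γ 6 * 1))) := rfl
  rw [h2, mul_one] at h1
  rw [eq_inv_iff_mul_eq_one, ← h1]
  group

omit h in
theorem x7 : ev γ X7 = γ 6 := by
  unfold X7
  rw [ev_singleton]

theorem dcd : γ 4 * cc γ 0 * γ 4 = cc γ 1 := by
  have h5 := h.cc_conj' (x := 4) (by simp) 0 1 (by decide +kernel)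
  rwa [inv_eq_of_mul_eq_one_left (d2 h)] at h5

variable (hone : ∀ u : G, orderOf u = 2 → ∃ g : G, g * u * g⁻¹ = γ 1)
include hone

/-- the centralizer of an element of order seven -/
theorem setup : Cfsg.Agent.ThType.CentSeven.Setup (γ 6) (γ 1) (cc γ 0) (γ 4) := by
  obtain ⟨f, F⟩ := Cfsg.Agent.CpAutTh.Local.exists_epi h
  have hx7 : orderOf (γ 6) = 7 := by
    have h5 := o7 h F
    rwa [Subgroup.orderOf_mk, x7] at h5
  have hw := w01 h
  have hc0 : cc γ 0 * γ 6 = γ 6 * cc γ 0 := by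
    have := comm_gen h (y := cc γ 0) (by simp)
    rwa [x7] at this
  refine ⟨hx7, hc0, h.data.cc 0, d2 h, ds h, ?_, h.aa, h.a1, ?_, ?_⟩
  · rw [dcd h]; exact hw.symm
  · intro y hy hya
    obtain ⟨i, q, hq, hyq⟩ := struct h F hya (by rw [x7]; exact hy)
    refine ⟨i, q, ?_, by rw [hyq, x7, zpow_natCast]⟩
    rw [dcd h]
    have : T γ ≤ closure ({cc γ 0, cc γ 1} : Set G) := by
      unfold T
      rw [closure_le]
      rintro z (rfl | rfl | rfl)
      · rw [← hw]
        exact mul_mem (mul_mem (subset_closure (by simp)) (subset_closure (by simp)))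
          (mul_mem (subset_closure (by simp)) (subset_closure (by simp)))
      · exact subset_closure (by simp)
      · exact subset_closure (by simp)
    exact this hq
  · have hc1 : orderOf (cc γ 0) = 2 := by
      refine orderOf_eq_prime (by rw [pow_two]; exact h.data.cc 0) ?_
      intro h6
      have h4 := order_w01 h
      rw [h6, one_mul] at h4
      have h8 := orderOf_dvd_of_pow_eq_one (show cc γ 1 ^ 2 = 1 by rw [pow_two]; exact h.data.cc 1)
      rw [h4] at h8
      exact absurd h8 (by norm_num)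
    obtain ⟨g, h1, h2⟩ := exists_pair h hone hx7 hc1 hc0 (P := fun z => z = ev γ X7)
      (fun y hy => by
        obtain ⟨c, hc⟩ := exists_rep_seven h F hy
        exact ⟨c, congrArg Subtype.val hc⟩)
    have h2' : g * γ 6 * g⁻¹ = γ 6 := by rw [h2, x7]
    refine ⟨g⁻¹, ?_, ?_⟩
    · have h3 := mul_inv_eq_iff_eq_mul.1 h2'
      rw [inv_mul_eq_iff_eq_mul, ← mul_assoc, h3, mul_inv_cancel_right]
    · rw [← h1]; group

/-- the centralizers of the elements of order seven which commute with an involution -/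
theorem card_seven {y t : G} (hy : orderOf y = 7) (ht : orderOf t = 2) (hc : t * y = y * t) :
    Nat.card (centralizer ({y} : Set G)) = 7 * 168 ∨ Nat.card (centralizer ({y} : Set G)) = 7 * 360 := by
  have hfin := h.fin
  obtain ⟨f, F⟩ := Cfsg.Agent.CpAutTh.Local.exists_epi h
  obtain ⟨g, h1, h2⟩ := exists_pair h hone hy ht hc (P := fun z => z = ev γ X7)
    (fun y hy => by
      obtain ⟨c, hc⟩ := exists_rep_seven h F hy
      exact ⟨c, congrArg Subtype.val hc⟩)
  have h3 : IsConj y (γ 6) := isConj_iff.2 ⟨g, by rw [h2, x7]⟩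
  rw [← Cfsg.Agent.Blocks.SylowIn.card_centralizer_of_isConj h3]
  exact (setup h hone).card_cases

end

theorem hone (u : Spor.Th) (hu : orderOf u = 2) : ∃ g : Spor.Th, g * u * g⁻¹ = Cfsg.Agent.Th.IndexUpper.gTh 1 :=
  isConj_iff.1 (Cfsg.Agent.MonsterX.ThOneClass.oneClass u _ hu Cfsg.Agent.MonsterX.ThOneClass.orderOf_a)

theorem card_th : Nat.card Spor.Th = 90745943887872000 := S1700.result.2

theorem mem_div {n b : ℕ} (hn : n ≠ 0) (hb : b ∣ n) (L : List ℕ) (hL : ∀ c < n + 1, c ∣ n → c ∈ L) : b ∈ L :=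
  hL b (Nat.lt_succ_of_le (Nat.le_of_dvd (Nat.pos_of_ne_zero hn) hb)) hb

theorem arith (e a b : ℕ) (he : e ∣ 31 - 1) (he2 : Even e) (hb : b ∣ 92897280) (hb2 : Odd b)
    (h1 : (e * (a * b)) % 31 = 90745943887872000 / 31 % 31)
    (h2 : (a * 92897280) % 31 = 90745943887872000 / 31 % 31) : b = 7 := by
  norm_num at h1 h2 he
  have hb' : b ∣ 2835 := by
    have h3 : Nat.Coprime b (2 ^ 15) := Nat.Coprime.pow_right 15 (Nat.coprime_two_right.2 hb2)
    exact h3.dvd_of_dvd_mul_left (by norm_num; exact hb)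
  obtain ⟨b1, b2, hb1, hb3, rfl⟩ : ∃ b1 b2, b1 ∣ 81 ∧ b2 ∣ 35 ∧ b1 * b2 = b := by
    obtain ⟨b1, b2, h3, h4, h5⟩ := (Nat.dvd_mul (m := 81) (n := 35)).1 (by norm_num; exact hb')
    exact ⟨b1, b2, h3, h4, h5⟩
  have hb1m : b1 ∈ [1, 3, 9, 27, 81] := mem_div (by norm_num) hb1 _ (by decide)
  have hb2m : b2 ∈ [1, 5, 7, 35] := mem_div (by norm_num) hb3 _ (by decide)
  have hem : e ∈ [1, 2, 3, 5, 6, 10, 15, 30] := mem_div (by norm_num) he _ (by decide)
  have ha' : a % 31 = 21 := by
    rw [Nat.mul_mod] at h2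
    norm_num at h2
    omega
  have key : ∀ e ∈ [1, 2, 3, 5, 6, 10, 15, 30], ∀ b1 ∈ [1, 3, 9, 27, 81], ∀ b2 ∈ [1, 5, 7, 35],
      e % 2 = 0 → (e * (21 * (b1 * b2))) % 31 = 15 → b1 * b2 = 7 := by decide
  refine key e hem b1 hb1m b2 hb2m (Nat.even_iff.1 he2) ?_
  rw [← h1, Nat.mul_mod, Nat.mul_mod 21, Nat.mul_mod e, Nat.mul_mod a, ha']

theorem hasDZ_31 : HasDZ 31 Spor.Th := by
  have : Fact (Nat.Prime 31) := ⟨by norm_num⟩
  have : Fact (Nat.Prime 7) := ⟨by norm_num⟩
  have hfin : Finite Spor.Th := Nat.finite_of_card_ne_zero (by rw [card_th]; norm_num)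
  refine hasDZ_of_card (by norm_num) (by rw [card_th]; exact factorization_eq_one (by norm_num) (by norm_num))
    (by rw [card_th]; norm_num) (m := 92897280)
    (fun u hu => card_cent Cfsg.Agent.KFacts.Th.Main.ctx hone hu) (by norm_num) ?_
  intro e a b x t hx ht hb he he2 hbm hbo hao hd h1 h2
  rw [card_th] at h1 h2
  have hb7 := arith e a b he he2 hbm hbo h1 h2
  rw [hb7] at hb
  obtain ⟨⟨y, hy⟩, hy7⟩ := exists_prime_orderOf_dvd_card'
    (G := ↥(centralizer ({x} : Set Spor.Th) ⊓ centralizer ({t} : Set Spor.Th))) 7 (by rw [hb])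
  rw [Subgroup.orderOf_mk] at hy7
  have hyx := mem_centralizer_singleton_iff.1 hy.1
  have hyt := mem_centralizer_singleton_iff.1 hy.2
  have h31 : 31 ∣ Nat.card (centralizer ({y} : Set Spor.Th)) := by
    have hxy : x ∈ centralizer ({y} : Set Spor.Th) := mem_centralizer_singleton_iff.2 hyx.symm
    rw [← hx, ← Subgroup.orderOf_mk x hxy]
    exact orderOf_dvd_natCard _
  rcases card_seven Cfsg.Agent.KFacts.Th.Main.ctx hone hy7 ht hyt.symm with h | h <;>
    · rw [h] at h31
      norm_num at h31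

theorem row_th' : Row.{u, 0} Spor.Th := by
  have : Fact (Nat.Prime 31) := ⟨by norm_num⟩
  have hfin : Finite Spor.Th := Nat.finite_of_card_ne_zero (by rw [card_th]; norm_num)
  refine Row.of_arith_primes (o := 1) (card_mulAut_dvd (by rw [Cfsg.Agent.S2083.result])) fun d hd => ?_
  rw [Nat.dvd_one.1 hd]
  refine ⟨31, by norm_num, by norm_num,
    (by rw [card_th]; exact factorization_eq_one (by norm_num) (by norm_num)), hasDZ_31, by norm_num, ?_⟩
  rw [card_th]
  norm_num

/-- **The row `Th` of S4943.** -/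
theorem row_th {S : Type v} [Group S] (h : Spor.IsoTh S) : Row.{u, v} S := by
  obtain ⟨e⟩ := h
  exact Row.mulEquiv row_th' e.symm

/-- **The row `Th` of S4983.** -/
theorem oneZero_th {S : Type u} [Group S] [Finite S] (h : Spor.IsoTh S) : ¬ Red.OneZero S := by
  obtain ⟨e⟩ := h
  exact Tool.of_model e 1 (by norm_num) (by norm_num) hasDZ_31 card_th one_ne_zero (by norm_num) (by norm_num)
    (by norm_num)

end Cfsg.Agent.H723.Spor.Th
end
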