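import Cfsg.Agent.H723.Spor.MOrders
import Cfsg.Agent.H723.Kill
import Cfsg.Agent.H713.Invol
import Cfsg.Agent.H865.RhoEleven
import Cfsg.Agent.H419.TwoTrans_m3
import Cfsg.Agent.S2068
import Cfsg.Agent.Prune
set_option linter.all false
prune_inst 0x7f00000000000000000000000000000000000000000000000000000000000000000000000000000000000000000000000000000000000000000000000000000000000000000000000000000000000000003fffffffffffffffffffffffffffbeffbdffffffff
open scoped Cfsg.Agent.FastGrp

/-!
# The fourth Janko group (helper723)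

* `cent_big` : centralizers of elements of order `23, 29, 31, 37, 43`.
* `dz_big` : characters of `p`-defect zero for `p = 23, 29, 31, 37, 43`.
* `row_j4` : the row of S4943.
* `evMix_j4` : an element of order 22 with centralizer of order 22 is a zero.
* `oneZero_j4` : the row of S4983.
-/

set_option autoImplicit false

namespace Cfsg.Agent.H723.Spor.JFour

open Cfsg Subgroup Cfsg.Agent.H713 Cfsg.Agent.H665.NoPQ Cfsg.Agent.H419.Row Cfsg.Agent.H419.Count
open Cfsg.Agent.H859.BigCent Cfsg.Agent.H859.BigNum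
open Cfsg.Agent.H858.FixJ4 (card_J4)

universe u v

/-- The primes `≥ 23`. -/
theorem cent_sub {p : ℕ} (hp : p = 23 ∨ p = 29 ∨ p = 31 ∨ p = 37 ∨ p = 43) {P : Subgroup Spor.J4}
    (hP : Nat.card P = p) : Nat.card (centralizer (P : Set Spor.J4)) = p := by
  rcases hp with rfl | rfl | rfl | rfl | rfl
  exacts [(data23 hP).1, (data29' hP).1, (data31 hP).1, (data37 hP).1, (data43 hP).1]

theorem centralizer_zpowers_eq {G : Type*} [Group G] (x : G) :
    centralizer ((zpowers x : Subgroup G) : Set G) = centralizer {x} := by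
  apply le_antisymm
  · exact centralizer_le (by simp)
  · intro g hg
    rw [mem_centralizer_iff]
    rintro y ⟨n, rfl⟩
    have h : Commute x g := (mem_centralizer_singleton_iff.1 hg).symm
    exact (h.zpow_left n).eq

/-- Elements of order `23, 29, 31, 37, 43` are self-centralizing. -/
theorem cent_big {p : ℕ} (hp : p = 23 ∨ p = 29 ∨ p = 31 ∨ p = 37 ∨ p = 43) {x : Spor.J4}
    (hx : orderOf x = p) : Nat.card (centralizer ({x} : Set Spor.J4)) = p := by
  rw [← centralizer_zpowers_eq]
  exact cent_sub hp (by rw [Nat.card_zpowers, hx])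

theorem prime_big {p : ℕ} (hp : p = 23 ∨ p = 29 ∨ p = 31 ∨ p = 37 ∨ p = 43) : p.Prime := by
  rcases hp with rfl | rfl | rfl | rfl | rfl <;> norm_num

theorem invol_big {p : ℕ} (hp : p = 23 ∨ p = 29 ∨ p = 31 ∨ p = 37 ∨ p = 43) {u : Spor.J4}
    (hu : orderOf u = 2) : ¬ p ∣ Nat.card (centralizer ({u} : Set Spor.J4)) := by
  have : Fact p.Prime := ⟨prime_big hp⟩
  intro h
  obtain ⟨⟨y, hy⟩, hy'⟩ := exists_prime_orderOf_dvd_card' p h
  rw [orderOf_mk] at hy'
  have h1 : u ∈ centralizer ({y} : Set Spor.J4) := by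
    rw [mem_centralizer_singleton_iff] at hy ⊢
    exact hy.symm
  have h2 : 2 ∣ p := by
    rw [← cent_big hp hy', ← hu, ← orderOf_mk u h1]
    exact orderOf_dvd_natCard _
  rcases hp with rfl | rfl | rfl | rfl | rfl <;> omega

/-- Two non-conjugate involutions. -/
theorem two_classes : ∃ s t : Spor.J4, orderOf s = 2 ∧ orderOf t = 2 ∧ ¬ IsConj s t := by
  obtain ⟨-, -, ⟨F⟩⟩ := KFacts.J4.Base.exists_full (K := Cfsg.Spor.J4) ⟨MulEquiv.refl _⟩
  have h0 : (none : GolayPt) ≠ some 0 := by decide
  have hnc := F.C.duad_not_conj none (some 0) h0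
  have hz1 : F.C.z ≠ 1 := H856.CentRho.z_ne F.C
  have hzz : F.C.z * F.C.z = 1 := H856.CentRho.zz F.C
  have he1 : F.C.ε {none, some 0} ≠ 1 := J4Type.DuadUniq.duad_ne_one F.C.toFrame h0
  have hH := J4Type.FusionConj.isHex_hex0
  have hee : F.C.ε {none, some 0} * F.C.ε {none, some 0} = 1 :=
    (F.C.E_elem J4Type.hex0 hH).1 _ (F.C.ε_mem _ (by rw [Finset.card_pair h0]; decide))
  have : Fact (Nat.Prime 2) := ⟨Nat.prime_two⟩
  exact ⟨_, _, orderOf_eq_prime (by rw [pow_two, hzz]) hz1, orderOf_eq_prime (by rw [pow_two, hee]) he1, hnc⟩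

theorem dz_big {p : ℕ} (hp : p = 23 ∨ p = 29 ∨ p = 31 ∨ p = 37 ∨ p = 43) : HasDZ p Spor.J4 := by
  have : Fact p.Prime := ⟨prime_big hp⟩
  obtain ⟨s, t, hs, ht, hst⟩ := two_classes
  exact hasDZ_of_two_classes (fun u hu => invol_big hp hu) hs ht hst

theorem inner (α : MulAut Spor.J4) : ∃ g : Spor.J4, α = MulAut.conj g := inner_of_out Cfsg.Agent.S2068.result α

theorem card_aut : Nat.card (MulAut Spor.J4) ∣ 1 * Nat.card Spor.J4 := by
  rw [one_mul]
  exact card_dvd_of_surjective (MulAut.conj : Spor.J4 →* MulAut Spor.J4) fun α => by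
    obtain ⟨g, hg⟩ := inner α
    exact ⟨g, hg.symm⟩

theorem fac43 : (Nat.card Spor.J4).factorization 43 = 1 := by
  rw [card_J4]
  exact factorization_eq (n := 1) (m := 2018036535955292160) (by norm_num) (by norm_num) (by norm_num)

/-- **The row of `J4` for S4943.** -/
theorem row_model : Row.{u, 0} Spor.J4 := by
  have : Fact (Nat.Prime 43) := ⟨by norm_num⟩
  refine Row.of_arith_out (p := 43) (o := 1) (by norm_num) fac43 (dz_big (by simp)) card_aut ?_
  intro d hd
  rw [Nat.dvd_one] at hd
  subst hd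
  rw [card_J4]
  norm_num

theorem row_j4 {S : Type v} [Group S] (h : Spor.IsoJ4 S) : Row.{u, v} S := by
  obtain ⟨e⟩ := h
  exact Row.mulEquiv.{u, 0, v} row_model e.symm

/-- **The row of `J4` for S4983.** -/
theorem oneZero_j4 {S : Type v} [Group S] [Finite S] (h : Spor.IsoJ4 S) : ¬ Red.OneZero S := by
  obtain ⟨e⟩ := h
  have hc : Nat.card S = 43 ^ 1 * 2018036535955292160 := by
    rw [Nat.card_congr e.toEquiv, card_J4]
    norm_num
  refine Kill.kill_card (p := 43) (by norm_num) (by norm_num) hc (by norm_num) (by norm_num) (by norm_num) ?_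
  exact Kill.zs_of_dz (by norm_num) (HasDZ.mulEquiv e.symm (dz_big (p := 43) (by simp)))

/-! ### The element of order 22 -/

theorem exists_22 : ∃ z y : Spor.J4, orderOf z = 2 ∧ orderOf y = 11 ∧ z * y = y * z ∧
    Nat.card (centralizer ({z * y} : Set Spor.J4)) ≤ 22 := by
  have h1 := Cfsg.Agent.H859.SylEleven.card_centralizer_x_eq
  have h2 := Cfsg.Agent.H859.ClassEleven.orderOf_x
  obtain ⟨z, hz, hzx, ho⟩ := exists_two_mul (p := 11) (by norm_num) (by norm_num) h2
    (by rw [h1]; norm_num)
  refine ⟨z, _, hz, h2, hzx, ?_⟩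
  have hcop : (orderOf z).Coprime (orderOf Cfsg.Agent.H859.SylEleven.x) := by
    rw [hz, h2]; norm_num
  rw [centralizer_mul hzx hcop]
  have h3 : Nat.card (centralizer ({z} : Set Spor.J4) ⊓
      centralizer {Cfsg.Agent.H859.SylEleven.x} : Subgroup Spor.J4) ∣ 242 := by
    rw [← h1]
    exact card_dvd_of_le inf_le_right
  have h4 : ¬ 11 ^ 2 ∣ Nat.card (centralizer ({z} : Set Spor.J4) ⊓
      centralizer {Cfsg.Agent.H859.SylEleven.x} : Subgroup Spor.J4) := fun h =>
    Cfsg.Agent.H859.CentC.not_sq_invol hz (h.trans (card_dvd_of_le inf_le_left))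
  generalize Nat.card (centralizer ({z} : Set Spor.J4) ⊓
      centralizer {Cfsg.Agent.H859.SylEleven.x} : Subgroup Spor.J4) = n at h3 h4 ⊢
  have h5 : n ≤ 242 := Nat.le_of_dvd (by norm_num) h3
  have key : ∀ n < 243, n ∣ 242 → ¬ 11 ^ 2 ∣ n → n ≤ 22 := by decide +kernel
  exact key n (by omega) h3 h4

/-- the element orders used -/
def os : Finset ℕ := {1, 2, 3, 4, 5, 6, 7, 8, 10, 11, 12, 14, 15, 21, 22, 23, 29, 31, 33, 35, 37, 43}

theorem exists_prime_order {p : ℕ} (hp : p.Prime) (h : p ∣ 86775571046077562880) :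
    ∃ g : Spor.J4, orderOf g = p := by
  have : Fact p.Prime := ⟨hp⟩
  exact exists_prime_orderOf_dvd_card' p (by rw [card_J4]; exact h)

/-- product of commuting elements of distinct prime orders -/
theorem exists_mul_order {p q : ℕ} (hp : p.Prime) (hq : q.Prime) (hpq : p ≠ q) {x : Spor.J4}
    (hx : orderOf x = p) (h : q ∣ Nat.card (centralizer ({x} : Set Spor.J4))) :
    ∃ g : Spor.J4, orderOf g = p * q := by
  have : Fact q.Prime := ⟨hq⟩
  obtain ⟨⟨y, hy⟩, hy'⟩ := exists_prime_orderOf_dvd_card' q h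
  rw [orderOf_mk] at hy'
  have hc : Commute x y := (mem_centralizer_singleton_iff.1 hy).symm
  refine ⟨x * y, ?_⟩
  rw [orderOf_mul_of_coprime hc (by rw [hx, hy']; exact (Nat.coprime_primes hp hq).2 hpq), hx, hy']

theorem exists_35 : ∃ g : Spor.J4, orderOf g = 35 := by
  have : Fact (Nat.Prime 5) := ⟨by norm_num⟩
  obtain ⟨y, hy⟩ := exists_prime_order (p := 5) (by norm_num) (by norm_num)
  have hP : Nat.card (zpowers y) = 5 := by rw [Nat.card_zpowers, hy]
  obtain ⟨j, h1, h2⟩ := Cfsg.Agent.H858.NormC.exists_card_normalizer_prime (by norm_num) hP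
  rw [card_normalizer_five hP, centralizer_zpowers_eq] at h2
  refine exists_mul_order (p := 5) (q := 7) (by norm_num) (by norm_num) (by norm_num) hy ?_
  have h3 : 7 ∣ j * Nat.card (centralizer ({y} : Set Spor.J4)) := ⟨3840, by rw [← h2]⟩
  rcases (Nat.Prime.dvd_mul (by norm_num)).1 h3 with h4 | h4
  · have h5 := h4.trans h1
    norm_num at h5
  · exact h4

theorem exists_33 : ∃ g : Spor.J4, orderOf g = 33 := by
  refine exists_mul_order (p := 11) (q := 3) (by norm_num) (by norm_num) (by norm_num)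
    Cfsg.Agent.H859.ClassEleven.orderOf_c ?_
  have h : Nat.card (centralizer ({H859.NU.c} : Set Spor.J4)) = 24 * 11 ^ 3 := Cfsg.Agent.H859.CentC.card_D
  rw [h]
  norm_num

theorem exists_os : ∀ n ∈ os, ∃ g : Spor.J4, orderOf g = n := by
  have hM : ∀ n ∈ ({4, 6, 8, 10, 12, 14, 15, 21} : Finset ℕ), ∃ g : Spor.J4, orderOf g = n := by
    intro n hn
    obtain ⟨x, hx⟩ := MOrders.exists_order hn
    refine ⟨J4.Pres.phi x, ?_⟩
    rw [orderOf_injective _ H858.VK.phi_injective, hx]
  obtain ⟨z, y, hz, hy, hzy, -⟩ := exists_22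
  have h22 : ∃ g : Spor.J4, orderOf g = 22 := ⟨z * y, by
    rw [orderOf_mul_of_coprime hzy (by rw [hz, hy]; norm_num), hz, hy]⟩
  intro n hn
  simp only [os, Finset.mem_insert, Finset.mem_singleton] at hn
  rcases hn with rfl | rfl | rfl | rfl | rfl | rfl | rfl | rfl | rfl | rfl | rfl | rfl | rfl | rfl |
    rfl | rfl | rfl | rfl | rfl | rfl | rfl | rfl
  · exact ⟨1, orderOf_one⟩
  · exact exists_prime_order (by norm_num) (by norm_num)
  · exact exists_prime_order (by norm_num) (by norm_num)
  · exact hM 4 (by decide)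
  · exact exists_prime_order (by norm_num) (by norm_num)
  · exact hM 6 (by decide)
  · exact exists_prime_order (by norm_num) (by norm_num)
  · exact hM 8 (by decide)
  · exact hM 10 (by decide)
  · exact exists_prime_order (by norm_num) (by norm_num)
  · exact hM 12 (by decide)
  · exact hM 14 (by decide)
  · exact hM 15 (by decide)
  · exact hM 21 (by decide)
  · exact h22
  · exact exists_prime_order (by norm_num) (by norm_num)
  · exact exists_prime_order (by norm_num) (by norm_num)
  · exact exists_prime_order (by norm_num) (by norm_num)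
  · exact exists_33
  · exact exists_35
  · exact exists_prime_order (by norm_num) (by norm_num)
  · exact exists_prime_order (by norm_num) (by norm_num)

theorem card_classes : 23 ≤ Nat.card (ConjClasses Spor.J4) := by
  obtain ⟨s, t, hs, ht, hst⟩ := two_classes
  exact card_orders_succ_le os exists_os hst (by rw [hs, ht])

/-- **An element of order 22 is a zero of an irreducible character.** -/
theorem vz_22 : ∃ x : Spor.J4, orderOf x = 22 ∧ VZ Spor.J4 x := by
  obtain ⟨z, y, hz, hy, hzy, hc⟩ := exists_22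
  refine ⟨z * y, ?_, vz_of_inner (van_of_card_lt ?_) inner⟩
  · rw [orderOf_mul_of_coprime hzy (by rw [hz, hy]; norm_num), hz, hy]
  · have := card_classes
    omega

theorem evMix_model : EvMix Spor.J4 := by
  obtain ⟨x, hx, hv⟩ := vz_22
  exact evMix_of_order (p := 11) hv (by norm_num) (by norm_num) (by rw [hx])

/-- **The row of `J4` of the table of even zeros.** -/
theorem evMix_j4 {S : Type v} [Group S] (h : Spor.IsoJ4 S) : EvMix S := by
  obtain ⟨e⟩ := h
  exact evMix_model.mulEquiv e.symm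

end Cfsg.Agent.H723.Spor.JFour

private theorem dce_48d2939701ed : _root_.True := by
  try have : _root_.True := by simp only [_root_.Cfsg.Agent.H723.Spor.JFour.os.eq_1]
  exact _root_.True.intro
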